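import Cfsg.Agent.H682.C6.Fib

/-!
# Commuting lifts (helper682)
-/

set_option autoImplicit false
set_option linter.style.haveILetI false

namespace Cfsg.Agent.H682.C6

open Cfsg.Agent.H888.C6 Module Module.End

section

variable {Y : Type*} [Group Y] {A : Subgroup Y} [A.Normal] {N0 n : ℕ}
variable {L V : Type*} [Field L] [AddCommGroup V] [Module L V]

/-- **Commuting lifts**: impossible in degree `n`, `2 N0 = (n+1)(n-2)`, if no orbit has length `N0 + 1`. -/
theorem comm_false [FiniteDimensional L V] (hB : Big A N0) (h2 : (2 : L) ≠ 0) (P : PLift A L V) (hP : P.Comm)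
    (hn : 16 ≤ n) (hN0 : 2 * N0 = (n + 1) * (n - 2)) (hV : finrank L V = n)
    (horb : ∀ lam : A →* ℤˣ, lam ≠ 1 → (orbSet A lam).ncard ≠ N0 + 1) : False := by
  classical
  haveI hfin := hB.fin
  -- the finset of weights
  have hWfin : {t : A → ℤˣ | P.Wt t}.Finite := Set.toFinite _
  obtain ⟨S, hS⟩ : ∃ S : Finset (A → ℤˣ), S = hWfin.toFinset := ⟨_, rfl⟩
  have hmem : ∀ t, t ∈ S ↔ P.Wt t := fun t => by rw [hS, Set.Finite.mem_toFinset]; rfl
  have hScard : S.card ≤ finrank L V := by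
    let e : (A → ℤˣ) → (A → L) := fun t a => ((t a : ℤ) : L)
    have he : Function.Injective e := fun t t' htt => funext fun a => coe_units_inj h2 (congrFun htt a)
    have := card_wt_le P.h (fun i j => hP i j) (S.image e) (by
      intro χ hχ
      rw [Finset.mem_image] at hχ
      obtain ⟨t, ht, rfl⟩ := hχ
      exact (hmem t).1 ht)
    rwa [Finset.card_image_of_injective _ he] at this
  -- two distinct weights
  obtain ⟨u, w, hu', hw', huw⟩ : ∃ u w : A → ℤˣ, P.Wt u ∧ P.Wt w ∧ u ≠ w := by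
    obtain ⟨a₀, ha₀⟩ := P.ns
    obtain ⟨χ, hχ, hχa⟩ := exists_wt_ne h2 P.h (fun i j => hP i j) P.sq a₀ 1 (ha₀ 1)
    obtain ⟨ψ, hψ, hψa⟩ := exists_wt_ne h2 P.h (fun i j => hP i j) P.sq a₀ (χ a₀) (ha₀ _)
    obtain ⟨u, hu⟩ := PLift.wt_unit hχ
    obtain ⟨w, hw⟩ := PLift.wt_unit hψ
    refine ⟨u, w, ?_, ?_, ?_⟩
    · have : (fun a => ((u a : ℤ) : L)) = χ := funext hu
      rw [PLift.Wt, this]; exact hχ
    · have : (fun a => ((w a : ℤ) : L)) = ψ := funext hw
      rw [PLift.Wt, this]; exact hψ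
    · rintro rfl
      apply hψa
      rw [← hw, ← hu]
  let Z := {p : (A → ℤˣ) × (A → ℤˣ) // p ∈ S.offDiag}
  have hZ : ∀ p : (A → ℤˣ) × (A → ℤˣ), p ∈ S.offDiag ↔ P.Wt p.1 ∧ P.Wt p.2 ∧ p.1 ≠ p.2 := by
    intro p
    rw [Finset.mem_offDiag, hmem, hmem]
  let φ : Z → (A →* ℤˣ) := fun z => PLift.ratio h2 ((hZ z.1).1 z.2).1 ((hZ z.1).1 z.2).2.1
  have hφ : ∀ (z : Z) (a : A), φ z a = z.1.1 a * z.1.2 a := fun z a => rfl
  have h1 : ∀ z, φ z ≠ 1 := by
    intro z hz
    apply ((hZ z.1).1 z.2).2.2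
    funext a
    have h3 := congrArg (fun g : A →* ℤˣ => g a) hz
    change z.1.1 a * z.1.2 a = 1 at h3
    calc z.1.1 a = z.1.1 a * (z.1.2 a * z.1.2 a) := by rw [Int.units_mul_self, mul_one]
      _ = z.1.2 a := by rw [← mul_assoc, h3, one_mul]
  have hinv : ∀ (y : Y) lam, fib φ lam ≤ fib φ (tr y lam) := by
    intro y lam
    obtain ⟨e, he⟩ := P.act_wt y⁻¹
    have hyy : ∀ a : A, MulAut.conjNormal (y⁻¹)⁻¹ a = MulAut.conjNormal y a := fun a => by rw [inv_inv]
    let T : (A → ℤˣ) → (A → ℤˣ) := fun u a => e a * u (MulAut.conjNormal y a)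
    have hT : ∀ u, P.Wt u → P.Wt (T u) := by
      intro u hu
      have := he u hu
      simp only [hyy] at this
      exact this
    have hTinj : Function.Injective T := by
      intro u u' h
      funext a
      have h3 := congrFun h (MulAut.conjNormal y⁻¹ a)
      have h4 : MulAut.conjNormal y (MulAut.conjNormal y⁻¹ a) = a := by
        rw [← MulAut.mul_apply, ← map_mul, mul_inv_cancel, map_one, MulAut.one_apply]
      change e _ * u _ = e _ * u' _ at h3
      rw [h4] at h3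
      exact mul_left_cancel h3
    have hg : ∀ z : Z, (T z.1.1, T z.1.2) ∈ S.offDiag := by
      intro z
      rw [hZ]
      obtain ⟨ha, hb, hc⟩ := (hZ z.1).1 z.2
      exact ⟨hT _ ha, hT _ hb, fun h => hc (hTinj h)⟩
    let g : Z → Z := fun z => ⟨(T z.1.1, T z.1.2), hg z⟩
    have hginj : Function.Injective g := by
      intro z z' h
      have h3 : (T z.1.1, T z.1.2) = (T z'.1.1, T z'.1.2) := congrArg Subtype.val h
      rw [Prod.mk.injEq] at h3
      exact Subtype.ext (Prod.ext (hTinj h3.1) (hTinj h3.2))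
    rw [fib, fib]
    apply Finset.card_le_card_of_injOn g
    · intro z hz
      rw [Finset.mem_coe, Finset.mem_filter] at hz ⊢
      refine ⟨Finset.mem_univ _, ?_⟩
      ext a
      rw [hφ, tr_apply, ← hz.2, hφ]
      change ((e a * z.1.1 _ * (e a * z.1.2 _) : ℤˣ) : ℤ) = _
      have hee : e a * e a = 1 := Int.units_mul_self _
      rw [mul_mul_mul_comm, hee, one_mul]
    · exact hginj.injOn
  have hge : ∀ z, 2 ≤ fib φ (φ z) := by
    intro z
    have hsw : (z.1.2, z.1.1) ∈ S.offDiag := by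
      rw [hZ]
      obtain ⟨ha, hb, hc⟩ := (hZ z.1).1 z.2
      exact ⟨hb, ha, hc.symm⟩
    have hne : z ≠ ⟨(z.1.2, z.1.1), hsw⟩ := by
      intro h
      have h3 : z.1 = (z.1.2, z.1.1) := congrArg Subtype.val h
      exact ((hZ z.1).1 z.2).2.2 (congrArg Prod.fst h3)
    rw [fib]
    rw [← Finset.card_pair hne]
    apply Finset.card_le_card
    intro z' hz'
    rw [Finset.mem_insert, Finset.mem_singleton] at hz'
    rw [Finset.mem_filter]
    refine ⟨Finset.mem_univ _, ?_⟩
    rcases hz' with rfl | rfl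
    · rfl
    · ext a
      rw [hφ, hφ, mul_comm]
  have hcZ : Fintype.card Z = S.card * (S.card - 1) := by
    rw [Fintype.card_coe, Finset.offDiag_card, Nat.mul_sub, mul_one]
  have hz : (u, w) ∈ S.offDiag := (hZ _).2 ⟨hu', hw', huw⟩
  have h3 := fib_le φ hB hinv h1 hge ⟨(u, w), hz⟩
  rw [hcZ, mul_comm N0 2, hN0] at h3
  have hSn : S.card = n := by
    by_contra hne
    have h4 : S.card ≤ n - 1 := by omega
    have h5 : S.card * (S.card - 1) ≤ (n - 1) * (n - 1 - 1) :=
      Nat.mul_le_mul h4 (Nat.sub_le_sub_right h4 1)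
    obtain ⟨k, rfl⟩ := Nat.exists_eq_add_of_le hn
    have h6 : (16 + k + 1) * (16 + k - 2) ≤ (16 + k - 1) * (16 + k - 1 - 1) := h3.trans h5
    have e1 : 16 + k - 2 = k + 14 := by omega
    have e2 : 16 + k - 1 = k + 15 := by omega
    have e3 : k + 15 - 1 = k + 14 := by omega
    rw [e1, e2, e3] at h6
    nlinarith
  refine no_fib φ hB hinv horb (m := 2) (by norm_num) ?_ h1 hge ?_
  · obtain ⟨k, rfl⟩ := Nat.exists_eq_add_of_le hn
    have e1 : 16 + k - 2 = k + 14 := by omega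
    rw [e1] at hN0
    nlinarith
  · rw [hcZ, hSn]
    obtain ⟨k, rfl⟩ := Nat.exists_eq_add_of_le hn
    have e1 : 16 + k - 2 = k + 14 := by omega
    have e2 : 16 + k - 1 = k + 15 := by omega
    rw [e1] at hN0
    rw [e2]
    nlinarith

end

end Cfsg.Agent.H682.C6
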