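import Cfsg.Agent.H888.C6.FTHom

/-!
# Invariant fibrations over the nontrivial characters (helper682)

`Big.no_fib` : a `Y`-invariant family of characters `≠ 1` with `m * (N0 + 1)` members and fibres of size at least `m`,
`0 < m < N0`, does not exist if no orbit has length `N0 + 1`.
-/

set_option autoImplicit false
set_option linter.style.haveILetI false

namespace Cfsg.Agent.H682.C6

open Cfsg.Agent.H888.C6

/-- the translated character -/
def tr {Y : Type*} [Group Y] {A : Subgroup Y} [A.Normal] (y : Y) (lam : A →* ℤˣ) : A →* ℤˣ :=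
  lam.comp ((MulAut.conjNormal y : MulAut A) : A →* A)

section

variable {Y : Type*} [Group Y] {A : Subgroup Y} [A.Normal]

theorem tr_apply (y : Y) (lam : A →* ℤˣ) (a : A) : tr y lam a = lam (MulAut.conjNormal y a) := rfl

theorem tr_tr (x y : Y) (lam : A →* ℤˣ) : tr x (tr y lam) = tr (y * x) lam := by
  ext a
  rw [tr_apply, tr_apply, tr_apply, map_mul, MulAut.mul_apply]

theorem tr_one (lam : A →* ℤˣ) : tr (1 : Y) lam = lam := by
  ext a
  rw [tr_apply, map_one, MulAut.one_apply]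

theorem mem_orbSet {lam mu : A →* ℤˣ} : mu ∈ orbSet A lam ↔ ∃ y : Y, tr y lam = mu := Iff.rfl

theorem orbSet_eq {lam mu : A →* ℤˣ} (h : mu ∈ orbSet A lam) : orbSet A mu = orbSet A lam := by
  obtain ⟨y, rfl⟩ := mem_orbSet.1 h
  ext nu
  rw [mem_orbSet, mem_orbSet]
  constructor
  · rintro ⟨x, rfl⟩
    exact ⟨y * x, (tr_tr _ _ _).symm⟩
  · rintro ⟨x, rfl⟩
    exact ⟨y⁻¹ * x, by rw [tr_tr, mul_inv_cancel_left]⟩

theorem self_mem (lam : A →* ℤˣ) : lam ∈ orbSet A lam := mem_orbSet.2 ⟨1, tr_one lam⟩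

end

section

variable {Y : Type*} [Group Y] {A : Subgroup Y} [A.Normal] {N0 : ℕ}
  {Z : Type*} [Fintype Z] (φ : Z → (A →* ℤˣ))

/-- the size of a fibre -/
noncomputable def fib (lam : A →* ℤˣ) : ℕ := by
  classical exact (Finset.univ.filter (fun z => φ z = lam)).card

theorem fib_le_fib {lam mu : A →* ℤˣ} (F : Z → Z) (hF : Function.Injective F)
    (h : ∀ z, φ z = lam → φ (F z) = mu) : fib φ lam ≤ fib φ mu := by
  classical
  rw [fib, fib]
  apply Finset.card_le_card_of_injOn F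
  · intro z hz
    rw [Finset.mem_coe, Finset.mem_filter] at hz ⊢
    exact ⟨Finset.mem_univ _, h z hz.2⟩
  · exact hF.injOn

theorem fib_pos (z : Z) : 1 ≤ fib φ (φ z) := by
  classical
  rw [fib, Nat.one_le_iff_ne_zero, Finset.card_ne_zero]
  exact ⟨z, by simp⟩

theorem fib_tr (hinv : ∀ (y : Y) lam, fib φ lam ≤ fib φ (tr y lam)) (y : Y) (lam : A →* ℤˣ) :
    fib φ (tr y lam) = fib φ lam := by
  apply le_antisymm _ (hinv y lam)
  have h1 := hinv y⁻¹ (tr y lam)
  rwa [tr_tr, mul_inv_cancel, tr_one] at h1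

variable (hB : Big A N0) (hinv : ∀ (y : Y) lam, fib φ lam ≤ fib φ (tr y lam))

include hB hinv

theorem card_over_orb (z : Z) : ∃ s : Finset Z, (∀ z', z' ∈ s ↔ φ z' ∈ orbSet A (φ z)) ∧
    s.card = (orbSet A (φ z)).ncard * fib φ (φ z) := by
  classical
  haveI := hB.fin
  have hfin : (orbSet A (φ z)).Finite := Set.toFinite _
  refine ⟨Finset.univ.filter (fun z' => φ z' ∈ orbSet A (φ z)), fun z' => by simp, ?_⟩
  rw [Finset.card_eq_sum_card_fiberwise (f := φ) (t := hfin.toFinset) (by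
    intro z' hz'
    rw [Finset.mem_coe, Finset.mem_filter] at hz'
    rw [Finset.mem_coe, Set.Finite.mem_toFinset]
    exact hz'.2)]
  rw [Finset.sum_const_nat (m := fib φ (φ z)), Set.ncard_eq_toFinset_card _ hfin]
  intro mu hmu
  rw [Set.Finite.mem_toFinset] at hmu
  obtain ⟨y, hy⟩ := mem_orbSet.1 hmu
  rw [← fib_tr φ hinv y, hy, fib]
  congr 1
  ext z'
  simp only [Finset.mem_filter, Finset.mem_univ, true_and]
  constructor
  · rintro ⟨-, h⟩; exact h
  · intro h
    exact ⟨by rw [h]; exact hmu, h⟩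

theorem fib_le {m : ℕ} (h1 : ∀ z, φ z ≠ 1) (hge : ∀ z, m ≤ fib φ (φ z)) (z : Z) :
    N0 * m ≤ Fintype.card Z := by
  obtain ⟨s, -, hs⟩ := card_over_orb φ hB hinv z
  have h3 := Finset.card_le_univ s
  rw [hs] at h3
  exact (Nat.mul_le_mul (hB.orb _ (h1 z)) (hge z)).trans h3

/-- **No invariant family of `m * (N0 + 1)` characters.** -/
theorem no_fib (horb : ∀ lam : A →* ℤˣ, lam ≠ 1 → (orbSet A lam).ncard ≠ N0 + 1) {m : ℕ} (hm : 0 < m)
    (hmN : m < N0) (h1 : ∀ z, φ z ≠ 1) (hge : ∀ z, m ≤ fib φ (φ z)) (hcard : Fintype.card Z = m * (N0 + 1)) :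
    False := by
  classical
  have hZ : 0 < Fintype.card Z := by rw [hcard]; positivity
  obtain ⟨z₀⟩ := Fintype.card_pos_iff.1 hZ
  obtain ⟨s, hs, hsc⟩ := card_over_orb φ hB hinv z₀
  have ho := hB.orb _ (h1 z₀)
  have ho' := horb _ (h1 z₀)
  have hle := Finset.card_le_univ s
  have hg := hge z₀
  have hO : (orbSet A (φ z₀)).ncard = N0 := by
    by_contra hne
    have h2 : N0 + 2 ≤ (orbSet A (φ z₀)).ncard := by omega
    have h3 := Nat.mul_le_mul h2 hg
    rw [← hsc] at h3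
    have h4 : (N0 + 2) * m ≤ m * (N0 + 1) := (h3.trans hle).trans hcard.le
    nlinarith
  by_cases hall : ∀ z, z ∈ s
  · have h2 : s.card = Fintype.card Z := by
      rw [Finset.eq_univ_iff_forall.2 hall, Finset.card_univ]
    rw [hsc, hO, hcard] at h2
    have h3 : N0 ∣ m * (N0 + 1) := ⟨_, h2.symm⟩
    have h4 : Nat.Coprime N0 (N0 + 1) := by simp
    have h5 := Nat.le_of_dvd hm (h4.dvd_of_dvd_mul_right h3)
    omega
  · push Not at hall
    obtain ⟨z₁, hz₁⟩ := hall
    obtain ⟨s', hs', hsc'⟩ := card_over_orb φ hB hinv z₁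
    have hdis : Disjoint s s' := by
      rw [Finset.disjoint_left]
      intro z hz hz'
      apply hz₁
      rw [hs] at hz ⊢
      rw [hs'] at hz'
      rw [← orbSet_eq hz, orbSet_eq hz']
      exact self_mem _
    have h2 := Finset.card_le_univ (s ∪ s')
    rw [Finset.card_union_of_disjoint hdis, hsc, hsc', hcard] at h2
    have h3 := Nat.mul_le_mul ho hg
    have h4 := Nat.mul_le_mul (hB.orb _ (h1 z₁)) (hge z₁)
    have h5 : N0 * m + N0 * m ≤ m * (N0 + 1) := by omega
    have h6 : 2 ≤ N0 := by omega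
    nlinarith

end

end Cfsg.Agent.H682.C6
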