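import Cfsg.Agent.H682.C6.CommCase
import Cfsg.Agent.H682.C6.SkewDim

/-!
# No orthogonal representation of degree `n`, `2 N0 = (n+1)(n-2)` (helper682, for S5651)
-/

set_option autoImplicit false
set_option linter.style.haveILetI false

namespace Cfsg.Agent.H682.C6

open Cfsg.Agent.H888.C6 Module Module.End Matrix

theorem choose_facts {n N0 e f : ℕ} (hn : 16 ≤ n) (hN0 : 2 * N0 = (n + 1) * (n - 2)) (he : e ≤ n.choose 2)
    (hf : f ≤ (n + 1).choose 2) (hef : e + f = n ^ 2) : e = N0 + 1 := by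
  obtain ⟨k, rfl⟩ := Nat.exists_eq_add_of_le hn
  have e1 : 16 + k - 2 = k + 14 := by omega
  have e2 : 16 + k - 1 = k + 15 := by omega
  rw [e1] at hN0
  rw [Nat.choose_two_right, e2] at he
  rw [Nat.choose_two_right, Nat.add_sub_cancel] at hf
  have h1 : 2 * e ≤ (16 + k) * (k + 15) := by
    have := Nat.div_mul_le_self ((16 + k) * (k + 15)) 2
    omega
  have h2 : 2 * f ≤ (16 + k + 1) * (16 + k) := by
    have := Nat.div_mul_le_self ((16 + k + 1) * (16 + k)) 2
    omega
  nlinarith

theorem one_lt_of {n N0 : ℕ} (hn : 16 ≤ n) (hN0 : 2 * N0 = (n + 1) * (n - 2)) : 1 < N0 := by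
  obtain ⟨k, rfl⟩ := Nat.exists_eq_add_of_le hn
  have e1 : 16 + k - 2 = k + 14 := by omega
  rw [e1] at hN0
  nlinarith

/-- **No orthogonal representation.** -/
theorem no_skew {Y : Type*} [Group Y] {A : Subgroup Y} [A.Normal] {N0 n : ℕ} (hB : Big A N0) (hn : 16 ≤ n)
    (hA : n ^ 2 ≤ Nat.card A) (hN0 : 2 * N0 = (n + 1) * (n - 2))
    (horb : ∀ lam : A →* ℤˣ, lam ≠ 1 → (orbSet A lam).ncard ≠ N0 + 1) {K : Type*} [Field K] (h2 : (2 : K) ≠ 0)
    {κ : Type*} [Fintype κ] [DecidableEq κ] (hκ : Fintype.card κ = n) (L : Subgroup (GL κ K)) (B : Matrix κ κ K)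
    (hsymm : Bᵀ = B) (hdet : IsUnit B.det) (hL : ∀ g ∈ L, (g : Matrix κ κ K)ᵀ * B * g = B) (π : L →* Y)
    (hπ : Function.Surjective π) (hker : ∀ g : L, π g = 1 ↔ ∃ c : K, ((g : GL κ K) : Matrix κ κ K) = c • 1) :
    False := by
  classical
  haveI hfin := hB.fin
  haveI : Fintype A := Fintype.ofFinite A
  haveI : Nonempty κ := Fintype.card_pos_iff.1 (by omega)
  obtain ⟨i₀⟩ := ‹Nonempty κ›
  haveI : Nonempty κ := ⟨i₀⟩
  have hAne : ∃ a ∈ A, MonoidHom.id Y a ≠ 1 := by
    have h3 : 1 < Nat.card A := lt_of_lt_of_le (by nlinarith) hA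
    rw [Finite.one_lt_card_iff_nontrivial] at h3
    obtain ⟨a, ha⟩ := exists_ne (1 : A)
    exact ⟨a, a.2, fun h => ha (Subtype.ext h)⟩
  obtain ⟨P, hP⟩ := exists_plift hB.sq (MonoidHom.id Y) hAne π (fun y => hπ y) L.subtype (fun g hg => (hker g).1 hg)
    (fun g hg => (hker g).2 hg)
  choose g t ht0 hg hh using hP
  have h2' : (2 : AlgebraicClosure K) ≠ 0 := alg_two_ne h2
  by_cases hc : P.Comm
  · exact comm_false hB h2' P hc hn hN0 (by rw [Module.finrank_fintype_fun_eq_card, hκ]) horb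
  have hle := hB.noncomm_case h2' P hc
  rw [Module.finrank_fintype_fun_eq_card, hκ] at hle
  have hcardA : Nat.card A = n ^ 2 := le_antisymm hle hA
  obtain ⟨s, hs⟩ := P.exists_form hB.comm
  have hmul := P.form_mul h2' hs
  have hsym := P.form_symm h2' hs
  -- the lifts
  obtain ⟨G, hG⟩ : ∃ G : A → Matrix κ κ K, ∀ a, G a = ((g a : GL κ K) : Matrix κ κ K) := ⟨_, fun a => rfl⟩
  have hrel : ∀ a b, G a * G b = ((s a b : ℤ) : K) • (G b * G a) := by
    intro a b
    have h3 := hs a b
    have e1 : P.h a * P.h b = (t a * t b) • theta K κ (G a * G b) := by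
      rw [hh, hh, smul_mul_smul_comm, ← map_mul, hG, hG]; rfl
    have e2 : P.h b * P.h a = (t a * t b) • theta K κ (G b * G a) := by
      rw [hh, hh, smul_mul_smul_comm, ← map_mul, hG, hG, mul_comm (t b)]; rfl
    rw [e1, e2, smul_comm] at h3
    have h4 := smul_right_injective _ (mul_ne_zero (ht0 a) (ht0 b)) h3
    apply theta_injective
    rw [theta_smul, map_intCast]
    exact h4
  have hGu : ∀ a, IsUnit (G a) := fun a => by rw [hG]; exact Units.isUnit _
  -- scalars in L
  have hsc : ∀ (x : L) (c : K), ((x : GL κ K) : Matrix κ κ K) = c • 1 → c = 1 ∨ c = -1 := by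
    intro x c hx
    have h3 := hL x x.2
    rw [hx, Matrix.transpose_smul, Matrix.transpose_one, smul_mul_assoc, one_mul, mul_smul_comm, mul_one,
      smul_smul] at h3
    have h4 : B ≠ 0 := by
      rintro rfl
      rw [Matrix.det_zero] at hdet
      exact not_isUnit_zero hdet
    have h5 : (c * c - 1) • B = 0 := by rw [sub_smul, h3, one_smul, sub_self]
    have h6 : c * c = 1 := sub_eq_zero.1 ((smul_eq_zero.1 h5).resolve_right h4)
    exact mul_self_eq_one_iff.1 h6
  -- squares
  have hsqx : ∀ x : L, π x ∈ A → ((x : GL κ K) : Matrix κ κ K) * ((x : GL κ K) : Matrix κ κ K) = 1 ∨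
      ((x : GL κ K) : Matrix κ κ K) * ((x : GL κ K) : Matrix κ κ K) = -1 := by
    intro x hx
    have h3 : π (x * x) = 1 := by
      rw [map_mul]
      exact congrArg Subtype.val (hB.sq ⟨π x, hx⟩)
    obtain ⟨c, hc⟩ := (hker _).1 h3
    have h4 : ((x : GL κ K) : Matrix κ κ K) * ((x : GL κ K) : Matrix κ κ K) = c • 1 := by rw [← hc]; rfl
    rcases hsc _ c hc with rfl | rfl
    · left; rw [h4, one_smul]
    · right; rw [h4, neg_one_smul]
  -- lifts of the same element
  have hsame : ∀ x y : L, π x = π y → ((x : GL κ K) : Matrix κ κ K) * ((x : GL κ K) : Matrix κ κ K) =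
      ((y : GL κ K) : Matrix κ κ K) * ((y : GL κ K) : Matrix κ κ K) := by
    intro x y hxy
    obtain ⟨c, hc⟩ := (hker (x * y⁻¹)).1 (by rw [map_mul, map_inv, hxy, mul_inv_cancel])
    have h3 : ((x : GL κ K) : Matrix κ κ K) = c • ((y : GL κ K) : Matrix κ κ K) := by
      have h4 : x = x * y⁻¹ * y := by group
      have h5 : ((x : GL κ K) : Matrix κ κ K) = (((x * y⁻¹ : L) : GL κ K) : Matrix κ κ K) *
          ((y : GL κ K) : Matrix κ κ K) := by
        conv_lhs => rw [h4]
        rfl
      rw [h5, hc, smul_mul_assoc, one_mul]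
    have h6 : c * c = 1 := by
      rcases hsc _ c hc with rfl | rfl <;> ring
    rw [h3, smul_mul_smul_comm, h6, one_smul]
  have hGsq : ∀ a, G a * G a = 1 ∨ G a * G a = -1 := by
    intro a
    rw [hG]
    refine hsqx (g a) ?_
    rw [hg]
    exact a.2
  have hone : (1 : Matrix κ κ K) ≠ -1 := by
    intro h
    have h3 := congrFun (congrFun h i₀) i₀
    rw [Matrix.neg_apply, Matrix.one_apply_eq] at h3
    apply h2
    linear_combination h3
  -- linear independence
  have hinv : ∀ a, G a * (((g a)⁻¹ : L) : GL κ K).1 = 1 := by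
    intro a
    rw [hG]
    exact Units.mul_inv (g a : GL κ K)
  have hinv' : ∀ a, (((g a)⁻¹ : L) : GL κ K).1 * G a = 1 := by
    intro a
    rw [hG]
    exact Units.inv_mul (g a : GL κ K)
  obtain ⟨Gi, hGi⟩ : ∃ Gi : A → Matrix κ κ K, ∀ a, Gi a = (((g a)⁻¹ : L) : GL κ K).1 := ⟨_, fun a => rfl⟩
  simp only [← hGi] at hinv hinv'
  have hLI : LinearIndependent K G := by
    let f : A → End K (Matrix κ κ K) := fun c => LinearMap.mulLeft K (G c) * LinearMap.mulRight K (Gi c)
    have hf : ∀ c X, f c X = G c * X * Gi c := fun c X => by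
      change G c * (X * Gi c) = _
      rw [mul_assoc]
    have hGrel : ∀ c a, G c * G a * Gi c = ((s c a : ℤ) : K) • G a := by
      intro c a
      rw [hrel, smul_mul_assoc, mul_assoc, hinv, mul_one]
    have hss : ∀ a b : A, ((s a b : ℤ) : K) * ((s a b : ℤ) : K) = 1 := by
      intro a b
      rcases units_eq (s a b) with h | h <;> rw [h] <;> simp
    have hGirel : ∀ i j, Gi j * Gi i = ((s i j : ℤ) : K) • (Gi i * Gi j) := by
      intro i j
      have h3 : (Gi j * Gi i) * (G i * G j) = 1 := by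
        rw [mul_assoc, ← mul_assoc (Gi i), hinv', one_mul, hinv']
      have h4 : (((s i j : ℤ) : K) • (Gi i * Gi j)) * (G i * G j) = 1 := by
        rw [hrel i j, smul_mul_smul_comm, hss, one_smul, mul_assoc, ← mul_assoc (Gi j), hinv', one_mul, hinv']
      have h5 : IsUnit (G i * G j) := (hGu i).mul (hGu j)
      exact h5.mul_right_cancel (h3.trans h4.symm)
    refine linInd_wt f ?_ (fun a c => ((s c a : ℤ) : K)) ?_ G (fun a h => ?_) (fun a c => ?_)
    · intro i j
      change f i * f j = f j * f i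
      refine LinearMap.ext fun X => ?_
      change f i (f j X) = f j (f i X)
      rw [hf, hf, hf, hf]
      have h3 : G i * (G j * X * Gi j) * Gi i = (G i * G j) * X * (Gi j * Gi i) := by simp only [mul_assoc]
      have h4 : G j * (G i * X * Gi i) * Gi j = (G j * G i) * X * (Gi i * Gi j) := by simp only [mul_assoc]
      rw [h3, h4, hrel i j, hGirel i j, smul_mul_assoc, smul_mul_assoc, mul_smul_comm, smul_smul, hss, one_smul]
    · intro a b hab
      have h5 : ∀ c, s c a = s c b := fun c => coe_units_inj h2 (congrFun hab c)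
      have h6 : a * b = 1 := by
        apply hB.form_nondeg h2' P hc hs
        intro c
        rw [hmul, hsym a c, hsym b c, h5 c, Int.units_mul_self]
      have h7 : a = b⁻¹ := eq_inv_of_mul_eq_one_left h6
      rw [h7]
      exact inv_eq_of_mul_eq_one_left (hB.sq b)
    · have h3 := hGu a
      rw [h] at h3
      exact not_isUnit_zero h3
    · rw [hf]
      exact hGrel c a
  -- symmetric or skew
  have hGB : ∀ a, (B * G a)ᵀ * G a = B := by
    intro a
    rw [Matrix.transpose_mul, hsymm, hG]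
    exact hL _ (g a).2
  have hsk : ∀ a, G a * G a = -1 → (B * G a)ᵀ = -(B * G a) := by
    intro a ha
    have h3 : (B * G a)ᵀ * (G a * G a) = B * G a := by rw [← mul_assoc, hGB]
    rw [ha, mul_neg, mul_one] at h3
    exact neg_eq_iff_eq_neg.1 h3
  have hsy : ∀ a, G a * G a = 1 → (B * G a)ᵀ = B * G a := by
    intro a ha
    have h3 : (B * G a)ᵀ * (G a * G a) = B * G a := by rw [← mul_assoc, hGB]
    rw [ha, mul_one] at h3
    exact h3
  let Z := {a : A // G a * G a = -1}
  let Z' := {a : A // ¬ G a * G a = -1}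
  have hZ : Fintype.card Z ≤ n.choose 2 := by
    rw [← hκ]
    exact card_skew hdet (fun z : Z => G z.1) (hLI.comp _ Subtype.val_injective) h2 (fun z => hsk _ z.2)
  have hZ' : Fintype.card Z' ≤ (n + 1).choose 2 := by
    rw [← hκ]
    exact card_symm hdet (fun z : Z' => G z.1) (hLI.comp _ Subtype.val_injective)
      (fun z => hsy _ ((hGsq z.1).resolve_right z.2))
  have hsum : Fintype.card Z + Fintype.card Z' = n ^ 2 := by
    rw [← hcardA, Nat.card_eq_fintype_card]
    rw [← Fintype.card_sum]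
    exact Fintype.card_congr (Equiv.sumCompl (fun a => G a * G a = -1))
  have hZc := choose_facts hn hN0 hZ hZ' hsum
  -- the characters
  have hms : ∀ a b c, s a (b * c) = s a b * s a c := fun a b c => by rw [hsym, hmul, hsym b, hsym c]
  obtain ⟨φ, hφ⟩ : ∃ φ : Z → (A →* ℤˣ), ∀ z b, φ z b = s z.1 b :=
    ⟨fun z => MonoidHom.mk' (fun b => s z.1 b) (fun b c => hms _ b c), fun z b => rfl⟩
  refine no_fib φ hB ?_ horb (m := 1) one_pos ?_ ?_ ?_ ?_
  · intro y lam
    obtain ⟨x, hx⟩ := hπ y⁻¹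
    have hmap : ∀ z : Z, G (MulAut.conjNormal y⁻¹ z.1) * G (MulAut.conjNormal y⁻¹ z.1) = -1 := by
      intro z
      have h3 : π (g (MulAut.conjNormal y⁻¹ z.1)) = π (x * g z.1 * x⁻¹) := by
        have e1 : π (g (MulAut.conjNormal y⁻¹ z.1)) = ((MulAut.conjNormal y⁻¹ z.1 : A) : Y) := hg _
        have e2 : π (x * g z.1 * x⁻¹) = y⁻¹ * (z.1 : Y) * (y⁻¹)⁻¹ := by
          rw [map_mul, map_mul, map_inv π, hx, hg]; rfl
        rw [e1, e2, MulAut.conjNormal_apply]
      have h4 := hsame _ _ h3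
      rw [hG, h4]
      have h5 : (((x * g z.1 * x⁻¹ : L) : GL κ K) : Matrix κ κ K) * (((x * g z.1 * x⁻¹ : L) : GL κ K) : Matrix κ κ K) =
          ((x : GL κ K) : Matrix κ κ K) * (G z.1 * G z.1) * (((x⁻¹ : L) : GL κ K) : Matrix κ κ K) := by
        have h6 : (x * g z.1 * x⁻¹) * (x * g z.1 * x⁻¹) = x * (g z.1 * g z.1) * x⁻¹ := by group
        have h7 := congrArg (fun w : L => ((w : GL κ K) : Matrix κ κ K)) h6
        rw [hG]
        exact h7
      rw [h5, z.2, mul_neg, mul_one, neg_mul]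
      congr 1
      exact Units.mul_inv (x : GL κ K)
    let F : Z → Z := fun z => ⟨_, hmap z⟩
    have hF : Function.Injective F := by
      intro z z' h
      have h3 := congrArg Subtype.val h
      exact Subtype.ext ((MulAut.conjNormal y⁻¹).injective h3)
    refine fib_le_fib φ F hF fun z hz => ?_
    ext a
    rw [tr_apply, ← hz, hφ, hφ]
    have h5 := P.form_conj h2' hs y (MulAut.conjNormal y⁻¹ z.1) a
    rw [← MulAut.mul_apply, ← map_mul, mul_inv_cancel, map_one, MulAut.one_apply] at h5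
    rw [h5]
  · exact one_lt_of hn hN0
  · intro z hz
    have h3 : z.1 = 1 := by
      apply hB.form_nondeg h2' P hc hs
      intro b
      rw [← hφ, hz]; rfl
    have h4 := z.2
    rw [h3, hG, hsame (g 1) 1 (by rw [hg, map_one, Subgroup.coe_one, map_one])] at h4
    apply hone
    rw [← h4]
    change (1 : Matrix κ κ K) = (1 : Matrix κ κ K) * (1 : Matrix κ κ K)
    rw [mul_one]
  · exact fib_pos φ
  · rw [one_mul]
    exact hZc

end Cfsg.Agent.H682.C6
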